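import Cfsg.Prelude.Def_SolvableStructure
import Cfsg.Agent.Lib.Supersolvable.Schmidt
import Cfsg.Agent.Lib.Hall.Solvable

/-!
Hall complement systems and system normalizers of finite solvable groups.
-/

set_option autoImplicit false
set_option linter.style.haveILetI false
open Pointwise

namespace Cfsg.Agent.Lib.SystemNormalizer

universe u

variable {G : Type u} [Group G]

/-- Cosets of subgroups of prime-power index, one for each prime, have a common element. -/
theorem exists_inv_mul_mem [Finite G] (H : Nat.Primes → Subgroup G)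
    (hH : ∀ p : Nat.Primes, ∃ k, (H p).index ∣ (p : ℕ) ^ k) (g : Nat.Primes → G) :
    ∃ x : G, ∀ p, (g p)⁻¹ * x ∈ H p := by
  classical
  choose e he using hH
  have key : ∀ s : Finset Nat.Primes, (∀ y : Nat.Primes → G, ∃ x : G, ∀ p ∈ s, (y p)⁻¹ * x ∈ H p) ∧
      ∀ q : Nat.Primes, q ∉ s → ((s.inf H).index).Coprime (q : ℕ) := by
    intro s
    induction s using Finset.induction_on with
    | empty =>
      refine ⟨fun y => ⟨1, by simp⟩, fun q _ => ?_⟩
      rw [Finset.inf_empty, Subgroup.index_top]
      exact Nat.coprime_one_left _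
    | @insert a s has ih =>
      obtain ⟨ih1, ih2⟩ := ih
      let A := H a
      let B := s.inf H
      have hco : A.index.Coprime B.index := by
        refine Nat.Coprime.coprime_dvd_left (he a) ?_
        exact (ih2 a has).symm.pow_left _
      have hi : (A ⊓ B).index = A.index * B.index :=
        le_antisymm Subgroup.index_inf_le
          (Nat.le_of_dvd (Nat.pos_of_ne_zero Subgroup.index_ne_zero_of_finite)
            (hco.mul_dvd_of_dvd_of_dvd (Subgroup.index_dvd_of_le inf_le_left)
              (Subgroup.index_dvd_of_le inf_le_right)))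
      refine ⟨fun y => ?_, fun q hq => ?_⟩
      · obtain ⟨b, hb⟩ := ih1 y
        let φ : G ⧸ (A ⊓ B) → (G ⧸ A) × (G ⧸ B) := fun x =>
          (Quotient.liftOn' x (fun z => (z : G ⧸ A)) (fun u v huv =>
            QuotientGroup.eq.2 ((QuotientGroup.leftRel_apply.1 huv).1)),
           Quotient.liftOn' x (fun z => (z : G ⧸ B)) (fun u v huv =>
            QuotientGroup.eq.2 ((QuotientGroup.leftRel_apply.1 huv).2)))
        have hinj : Function.Injective φ := by
          intro u v huv
          obtain ⟨u, rfl⟩ := QuotientGroup.mk_surjective u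
          obtain ⟨v, rfl⟩ := QuotientGroup.mk_surjective v
          obtain ⟨h1, h2⟩ := Prod.ext_iff.1 huv
          exact QuotientGroup.eq.2 ⟨QuotientGroup.eq.1 h1, QuotientGroup.eq.1 h2⟩
        have hbij : Function.Bijective φ := by
          rw [Nat.bijective_iff_injective_and_card]
          refine ⟨hinj, ?_⟩
          rw [Nat.card_prod]
          exact hi
        obtain ⟨x, hx⟩ := hbij.2 ((y a : G ⧸ A), (b : G ⧸ B))
        obtain ⟨x, rfl⟩ := QuotientGroup.mk_surjective x
        obtain ⟨hxa, hxb⟩ := Prod.ext_iff.1 hx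
        refine ⟨x, fun p hp => ?_⟩
        rcases Finset.mem_insert.1 hp with rfl | hps
        · exact QuotientGroup.eq.1 hxa.symm
        · have h1 : b⁻¹ * x ∈ H p := (Finset.inf_le hps : B ≤ H p) (QuotientGroup.eq.1 hxb.symm)
          have h2 := mul_mem (hb p hps) h1
          rwa [mul_assoc, mul_inv_cancel_left] at h2
      · simp only [Finset.mem_insert, not_or] at hq
        rw [Finset.inf_insert, hi, Nat.coprime_mul_iff_left]
        refine ⟨Nat.Coprime.coprime_dvd_left (he a) (Nat.Coprime.pow_left _ ?_), ih2 q hq.2⟩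
        exact (Nat.coprime_primes a.2 q.2).2 fun h => hq.1 (Subtype.ext h.symm)
  let F : Finset Nat.Primes := (Nat.card G).primeFactors.subtype Nat.Prime
  obtain ⟨x, hx⟩ := (key F).1 g
  refine ⟨x, fun p => ?_⟩
  by_cases hp : p ∈ F
  · exact hx p hp
  · have hnd : ¬ (p : ℕ) ∣ Nat.card G := fun hd => hp
      ((Finset.mem_subtype (p := Nat.Prime) (a := p)).2 (Nat.mem_primeFactors.2 ⟨p.2, hd, Nat.card_pos.ne'⟩))
    have h1 : (H p).index = 1 :=
      Nat.eq_one_of_dvd_coprimes ((p.2.coprime_iff_not_dvd.2 hnd).pow_left (e p)) (he p)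
        (H p).index_dvd_card
    rw [Subgroup.index_eq_one.1 h1]
    exact Subgroup.mem_top _

/-- The defining equation of a complement system gives the orders of its members. -/
theorem card_mul [Finite G] {K : Nat.Primes → Subgroup G} (hK : Cfsg.IsComplementSystem K)
    (p : Nat.Primes) :
    Nat.card G = Nat.card (K p) * (p : ℕ) ^ (Nat.card G).factorization p := by
  rw [← hK p, Subgroup.card_mul_index]

theorem not_dvd_card [Finite G] {K : Nat.Primes → Subgroup G} (hK : Cfsg.IsComplementSystem K)
    (p : Nat.Primes) : ¬ (p : ℕ) ∣ Nat.card (K p) := by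
  rintro ⟨c, hc⟩
  have h := card_mul hK p
  refine Nat.pow_succ_factorization_not_dvd (n := Nat.card G) Nat.card_pos.ne' p.2 ⟨c, ?_⟩
  conv_lhs => rw [h, hc]
  rw [pow_succ]
  ring

theorem coprime_card_pow [Finite G] {K : Nat.Primes → Subgroup G} (hK : Cfsg.IsComplementSystem K)
    (p : Nat.Primes) (k : ℕ) : (Nat.card (K p)).Coprime ((p : ℕ) ^ k) :=
  ((p.2.coprime_iff_not_dvd.2 (not_dvd_card hK p)).symm).pow_right k

theorem index_normalizer_dvd {K : Nat.Primes → Subgroup G} (hK : Cfsg.IsComplementSystem K)
    (p : Nat.Primes) :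
    (Subgroup.normalizer ((K p : Subgroup G) : Set G)).index ∣
      (p : ℕ) ^ (Nat.card G).factorization p :=
  hK p ▸ Subgroup.index_dvd_of_le Subgroup.le_normalizer

/-- Two complement systems of a finite solvable group are conjugate. -/
theorem exists_conj [Finite G] [Group.IsSolvable G] {K L : Nat.Primes → Subgroup G}
    (hK : Cfsg.IsComplementSystem K) (hL : Cfsg.IsComplementSystem L) :
    ∃ g : G, ∀ p : Nat.Primes, MulAut.conj g • K p = L p := by
  have hc : ∀ p : Nat.Primes, ∃ g : G, MulAut.conj g • K p = L p := by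
    intro p
    refine Hall.conj_of_card_eq (card_mul hK p) (coprime_card_pow hK p _) rfl ?_
    exact Nat.eq_of_mul_eq_mul_right (pow_pos p.2.pos _) ((card_mul hL p).symm.trans (card_mul hK p))
  choose g hg using hc
  obtain ⟨x, hx⟩ := exists_inv_mul_mem (fun p => Subgroup.normalizer ((K p : Subgroup G) : Set G))
    (fun p => ⟨_, index_normalizer_dvd hK p⟩) g
  refine ⟨x, fun p => ?_⟩
  have h := Supersolvable.mem_normalizer_iff_conj_smul.1 (hx p)
  rw [map_mul, mul_smul, map_inv, inv_smul_eq_iff, hg p] at h
  exact h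

theorem systemNormalizer_le (K : Nat.Primes → Subgroup G) (p : Nat.Primes) :
    Cfsg.systemNormalizer K ≤ Subgroup.normalizer ((K p : Subgroup G) : Set G) :=
  iInf_le _ p

/-- A `q`-subgroup of the system normalizer lies in every member of another prime. -/
theorem isPGroup_le [Finite G] {K : Nat.Primes → Subgroup G} (hK : Cfsg.IsComplementSystem K)
    {q : ℕ} [Fact q.Prime] {R : Subgroup G} (hR : IsPGroup q R)
    (hRD : R ≤ Cfsg.systemNormalizer K) {p : Nat.Primes} (hp : (p : ℕ) ≠ q) : R ≤ K p := by
  rw [← Subgroup.relIndex_eq_one]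
  obtain ⟨a, ha⟩ := IsPGroup.iff_card.1 hR
  have hRN := hRD.trans (systemNormalizer_le K p)
  let N := Subgroup.normalizer ((K p : Subgroup G) : Set G)
  haveI : ((K p).subgroupOf N).Normal := Subgroup.normal_in_normalizer
  have h1 : (K p).relIndex R ∣ (K p).index := by
    rw [← Subgroup.relIndex_subgroupOf hRN]
    refine dvd_trans (Subgroup.relIndex_dvd_index_of_normal _ _) ?_
    exact Dvd.intro _ (Subgroup.relIndex_mul_index (Subgroup.le_normalizer (H := K p)))
  have h2 : (K p).relIndex R ∣ q ^ a := ha ▸ Subgroup.index_dvd_card _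
  exact Nat.eq_one_of_dvd_coprimes
    (((Nat.coprime_primes p.2 Fact.out).2 hp).pow _ _) (hK p ▸ h1) h2

/-- System normalizers are nilpotent. -/
theorem isNilpotent [Finite G] {K : Nat.Primes → Subgroup G} (hK : Cfsg.IsComplementSystem K) :
    Group.IsNilpotent (Cfsg.systemNormalizer K) := by
  rw [Supersolvable.isNilpotent_iff_all_sylow_normal]
  intro q hq R
  let Q₀ : Subgroup G := ⨅ (p : Nat.Primes) (_ : (p : ℕ) ≠ q), K p
  have hQ₀ : IsPGroup q Q₀ := by
    refine IsPGroup.of_card (n := (Nat.card Q₀).factorization q) ?_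
    rw [Nat.eq_prime_pow_of_unique_prime_dvd Nat.card_pos.ne' (fun {d} hd hdd => ?_)]
    · rw [hq.out.factorization_pow, Finsupp.single_eq_same]
    · by_contra hne
      exact not_dvd_card hK ⟨d, hd⟩ (hdd.trans (Subgroup.card_dvd_of_le (iInf₂_le (f := fun (p : Nat.Primes) (_ : (p : ℕ) ≠ q) => K p) ⟨d, hd⟩ hne)))
  let D := Cfsg.systemNormalizer K
  have hle : ∀ T : Sylow q D, (T : Subgroup D) = Q₀.subgroupOf D := by
    intro T
    refine (T.3 (hQ₀.comap_of_injective D.subtype D.subtype_injective) ?_).symm
    rw [← Subgroup.map_le_iff_le_comap]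
    refine le_iInf₂ fun p hp => isPGroup_le hK (T.isPGroup'.map _) (Subgroup.map_subtype_le _) hp
  haveI : Subsingleton (Sylow q D) := ⟨fun A B => Sylow.ext ((hle A).trans (hle B).symm)⟩
  exact Sylow.normal_of_subsingleton R

theorem map_isComplementSystem [Finite G] {K : Nat.Primes → Subgroup G}
    (hK : Cfsg.IsComplementSystem K) (N : Subgroup G) [N.Normal] :
    Cfsg.IsComplementSystem (fun p => (K p).map (QuotientGroup.mk' N)) := by
  intro p
  let Kb := (K p).map (QuotientGroup.mk' N)
  show Kb.index = (p : ℕ) ^ (Nat.card (G ⧸ N)).factorization p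
  have hd : Kb.index ∣ (p : ℕ) ^ (Nat.card G).factorization p :=
    hK p ▸ (K p).index_map_dvd (QuotientGroup.mk'_surjective N)
  obtain ⟨i, -, hi⟩ := (Nat.dvd_prime_pow p.2).1 hd
  have hnd : ¬ (p : ℕ) ∣ Nat.card Kb := fun h =>
    not_dvd_card hK p (h.trans (Subgroup.card_map_dvd _ _))
  rw [hi, ← Subgroup.card_mul_index Kb, hi,
    Nat.factorization_mul Nat.card_pos.ne' (pow_ne_zero _ p.2.ne_zero), Finsupp.add_apply,
    Nat.factorization_eq_zero_of_not_dvd hnd, p.2.factorization_pow, Finsupp.single_eq_same,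
    zero_add]

/-- System normalizers map onto system normalizers of quotients. -/
theorem map_systemNormalizer [Finite G] [Group.IsSolvable G] {K : Nat.Primes → Subgroup G}
    (hK : Cfsg.IsComplementSystem K) (N : Subgroup G) [N.Normal] :
    Cfsg.systemNormalizer (fun p => (K p).map (QuotientGroup.mk' N)) =
      (Cfsg.systemNormalizer K).map (QuotientGroup.mk' N) := by
  let f := QuotientGroup.mk' N
  have hf : Function.Surjective f := QuotientGroup.mk'_surjective N
  refine le_antisymm ?_ ?_
  swap
  · exact le_iInf fun p => (Subgroup.map_mono (systemNormalizer_le K p)).trans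
      (Subgroup.le_normalizer_map f)
  intro y hy
  obtain ⟨g, rfl⟩ := hf y
  have hstep : ∀ p : Nat.Primes, ∃ n : N, (n : G)⁻¹ * g ∈
      Subgroup.normalizer ((K p : Subgroup G) : Set G) := by
    intro p
    let M := K p ⊔ N
    have hM : M = ((K p).map f).comap f := by
      rw [Subgroup.comap_map_eq, QuotientGroup.ker_mk']
    have hgM : MulAut.conj g • M = M := by
      rw [← Supersolvable.mem_normalizer_iff_conj_smul, hM]
      exact Subgroup.le_normalizer_comap f (Subgroup.mem_iInf.1 hy p)
    have hA : K p ≤ M := le_sup_left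
    have hB : MulAut.conj g • K p ≤ M := by
      calc MulAut.conj g • K p ≤ MulAut.conj g • M := Subgroup.pointwise_smul_le_pointwise_smul_iff.2 hA
        _ = M := hgM
    have hcA : Nat.card ((K p).subgroupOf M) = Nat.card (K p) :=
      Nat.card_congr (Subgroup.subgroupOfEquivOfLe hA).toEquiv
    have hcB : Nat.card ((MulAut.conj g • K p).subgroupOf M) = Nat.card (K p) :=
      (Nat.card_congr (Subgroup.subgroupOfEquivOfLe hB).toEquiv).trans
        (Nat.card_congr (Subgroup.equivSMul (MulAut.conj g) (K p)).toEquiv).symm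
    have hMc : Nat.card M = Nat.card (K p) * ((K p).subgroupOf M).index := by
      rw [← hcA, Subgroup.card_mul_index]
    have hco : (Nat.card (K p)).Coprime ((K p).subgroupOf M).index := by
      refine Nat.Coprime.coprime_dvd_right ?_ (coprime_card_pow hK p ((Nat.card G).factorization p))
      rw [← hK p, ← Subgroup.relIndex_mul_index hA]
      exact dvd_mul_right _ _
    obtain ⟨y, hy⟩ := Hall.conj_of_card_eq (G := M) hMc hco hcA hcB
    rw [Subgroup.conj_smul_subgroupOf hA y] at hy
    have hy' : MulAut.conj (y : G) • K p = MulAut.conj g • K p := by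
      have h := congrArg (Subgroup.map M.subtype) hy
      rwa [Subgroup.map_subgroupOf_eq_of_le (Subgroup.conj_smul_le_of_le hA y),
        Subgroup.map_subgroupOf_eq_of_le hB] at h
    obtain ⟨n, hn, k, hk, hnk⟩ := Subgroup.mem_sup_of_normal_left.1
      (show (y : G) ∈ N ⊔ K p by rw [sup_comm]; exact y.2)
    rw [← hnk, map_mul, mul_smul, Subgroup.conj_smul_eq_self_of_mem hk] at hy'
    refine ⟨⟨n, hn⟩, Supersolvable.mem_normalizer_iff_conj_smul.2 ?_⟩
    rw [map_mul, mul_smul, map_inv, ← hy', inv_smul_smul]
  choose n hn using hstep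
  obtain ⟨x, hx⟩ := exists_inv_mul_mem (G := N)
    (fun p => (Subgroup.normalizer ((K p : Subgroup G) : Set G)).subgroupOf N)
    (fun p => ⟨_, dvd_trans (Dvd.intro _ (Supersolvable.relIndex_mul_sup_index _ N))
      (index_normalizer_dvd hK p)⟩) n
  refine ⟨(x : G)⁻¹ * g, Subgroup.mem_iInf.2 fun p => ?_, ?_⟩
  · have h1 := mul_mem (inv_mem (Subgroup.mem_subgroupOf.1 (hx p))) (hn p)
    have h2 : ((((n p)⁻¹ * x : N)) : G)⁻¹ * ((n p : G)⁻¹ * g) = (x : G)⁻¹ * g := by
      simp only [Subgroup.coe_mul, InvMemClass.coe_inv]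
      group
    rwa [h2] at h1
  · show f ((x : G)⁻¹ * g) = f g
    rw [map_mul, show f (x : G)⁻¹ = 1 from (QuotientGroup.eq_one_iff _).2 (inv_mem x.2), one_mul]

/-- The normal closure of a system normalizer is the whole group. -/
theorem normalClosure_eq_top (G : Type u) [Group G] [Finite G] [Group.IsSolvable G]
    (K : Nat.Primes → Subgroup G) (hK : Cfsg.IsComplementSystem K) :
    Subgroup.normalClosure ((Cfsg.systemNormalizer K : Subgroup G) : Set G) = ⊤ := by
  induction hn : Nat.card G using Nat.strong_induction_on generalizing G with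
  | _ n ih =>
    subst hn
    rcases subsingleton_or_nontrivial G with hs | hnt
    · exact Subsingleton.elim _ _
    obtain ⟨M, hMn, hMne, hMc, hMmin, -⟩ := Supersolvable.exists_minimal_normal_solvable G
    haveI := hMn
    haveI := hMc
    let R := Subgroup.normalClosure ((Cfsg.systemNormalizer K : Subgroup G) : Set G)
    show R = ⊤
    let f := QuotientGroup.mk' M
    have hf : Function.Surjective f := QuotientGroup.mk'_surjective M
    have ih' := ih _ (Supersolvable.card_quotient_lt hMne) (G ⧸ M)
      (fun p => (K p).map f) (map_isComplementSystem hK M) rfl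
    rw [map_systemNormalizer hK M] at ih'
    haveI : (R.map f).Normal := (Subgroup.normalClosure_normal).map f hf
    have hR : R.map f = ⊤ := top_le_iff.1 (ih' ▸ Subgroup.normalClosure_le_normal
      (Subgroup.map_mono Subgroup.subset_normalClosure))
    have htop : R ⊔ M = ⊤ := by
      have h := congrArg (Subgroup.comap f) hR
      rwa [Subgroup.comap_map_eq, QuotientGroup.ker_mk', Subgroup.comap_top] at h
    rcases hMmin (R ⊓ M) inferInstance inf_le_right with h | h
    swap
    · rwa [sup_eq_left.2 (inf_eq_right.1 h)] at htop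
    exfalso
    have hMcen : ∀ p, M ≤ Subgroup.normalizer ((K p : Subgroup G) : Set G) := by
      intro p m hm
      refine Subgroup.centralizer_le_normalizer _ (Subgroup.mem_centralizer_iff.2 fun z _ => ?_)
      obtain ⟨r, hr, m', hm', rfl⟩ :=
        Subgroup.mem_sup_of_normal_right.1 (htop ▸ Subgroup.mem_top z : z ∈ R ⊔ M)
      have h1 : Commute r m := Subgroup.commute_of_normal_of_disjoint R M
        Subgroup.normalClosure_normal hMn (disjoint_iff.2 h) r m hr hm
      have h2 : Commute m' m :=
        congrArg Subtype.val (mul_comm' (⟨m', hm'⟩ : M) ⟨m, hm⟩)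
      exact (h1.mul_left h2).eq
    have hle : M ≤ R := (le_iInf hMcen).trans Subgroup.subset_normalClosure
    exact hMne (le_bot_iff.1 (h ▸ le_inf hle le_rfl))

end Cfsg.Agent.Lib.SystemNormalizer
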