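import Cfsg.Agent.Lib.SystemNormalizer.Basic
import Cfsg.Agent.Lib.Carter

/-!
System normalizers and Carter subgroups of finite solvable groups.
-/

set_option autoImplicit false
set_option linter.style.haveILetI false
open Pointwise

namespace Cfsg.Agent.Lib.SystemNormalizer

universe u

variable {G : Type u} [Group G]

theorem conj_isComplementSystem [Finite G] {K : Nat.Primes → Subgroup G}
    (hK : Cfsg.IsComplementSystem K) (g : G) :
    Cfsg.IsComplementSystem (fun p => MulAut.conj g • K p) := fun p =>
  (Subgroup.index_map_equiv (K p) (MulAut.conj g)).trans (hK p)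

theorem conj_systemNormalizer (K : Nat.Primes → Subgroup G) (g : G) :
    MulAut.conj g • Cfsg.systemNormalizer K =
      Cfsg.systemNormalizer (fun p => MulAut.conj g • K p) := by
  ext x
  simp only [Cfsg.systemNormalizer, Subgroup.mem_pointwise_smul_iff_inv_smul_mem, Subgroup.mem_iInf,
    ← Supersolvable.conj_smul_normalizer]

/-- The image of a Carter subgroup is a Carter subgroup. -/
theorem isCarter_map [Finite G] [Group.IsSolvable G] {C : Subgroup G} (hC : Carter.IsCarter C)
    (N : Subgroup G) [N.Normal] : Carter.IsCarter (C.map (QuotientGroup.mk' N)) := by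
  let f := QuotientGroup.mk' N
  haveI := hC.1
  refine ⟨Group.nilpotent_of_surjective (f.subgroupMap C) (f.subgroupMap_surjective C),
    le_antisymm ?_ Subgroup.le_normalizer⟩
  intro y hy
  obtain ⟨g, rfl⟩ := QuotientGroup.mk'_surjective N y
  let X := (C.map f).comap f
  have hCX : C ≤ X := Subgroup.le_comap_map f C
  have hgX : MulAut.conj g • X = X :=
    Supersolvable.mem_normalizer_iff_conj_smul.1 (Subgroup.le_normalizer_comap f hy)
  have hgC : MulAut.conj g • C ≤ X := by
    calc MulAut.conj g • C ≤ MulAut.conj g • X := Subgroup.pointwise_smul_le_pointwise_smul_iff.2 hCX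
      _ = X := hgX
  obtain ⟨x, hx⟩ := (Carter.exists_and_conj X).2 _ _ (hC.subgroupOf hCX) ((hC.conj g).subgroupOf hgC)
  rw [Subgroup.conj_smul_subgroupOf hCX x] at hx
  have hx' : MulAut.conj (x : G) • C = MulAut.conj g • C := by
    have h := congrArg (Subgroup.map X.subtype) hx
    rwa [Subgroup.map_subgroupOf_eq_of_le (Subgroup.conj_smul_le_of_le hCX x),
      Subgroup.map_subgroupOf_eq_of_le hgC] at h
  have hmem : (x : G)⁻¹ * g ∈ C := by
    rw [← hC.2]
    refine Supersolvable.mem_normalizer_iff_conj_smul.2 ?_
    rw [map_mul, mul_smul, map_inv, ← hx', inv_smul_smul]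
  have hg : g ∈ X := by
    have h := X.mul_mem x.2 (hCX hmem)
    rwa [mul_inv_cancel_left] at h
  exact hg

/-- `K` reduces into the subgroup `C`. -/
def Reduces (K : Nat.Primes → Subgroup G) (C : Subgroup G) : Prop :=
  ∀ p : Nat.Primes, ∃ k, (K p).relIndex C ∣ (p : ℕ) ^ k

theorem exists_reducing [Finite G] [Group.IsSolvable G] (C : Subgroup G) :
    ∃ K : Nat.Primes → Subgroup G, Cfsg.IsComplementSystem K ∧ Reduces K C := by
  have h : ∀ p : Nat.Primes, ∃ K : Subgroup G,
      K.index = (p : ℕ) ^ (Nat.card G).factorization p ∧ ∃ k, K.relIndex C ∣ (p : ℕ) ^ k := by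
    intro p
    have hC0 : Nat.card C ≠ 0 := Nat.card_pos.ne'
    have hG0 : Nat.card G ≠ 0 := Nat.card_pos.ne'
    obtain ⟨L, hL⟩ := Hall.exists_card_eq (G := C)
      (m := Nat.card C / (p : ℕ) ^ (Nat.card C).factorization p)
      (k := (p : ℕ) ^ (Nat.card C).factorization p)
      (Nat.div_mul_cancel (Nat.ordProj_dvd _ _)).symm
      (((Nat.coprime_ordCompl p.2 hC0).symm).pow_right _)
    have hLc : Nat.card (L.map C.subtype) = Nat.card C / (p : ℕ) ^ (Nat.card C).factorization p := by
      rw [Subgroup.card_map_of_injective C.subtype_injective, hL]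
    obtain ⟨H, hH, hLH⟩ := Hall.exists_card_eq_ge (G := G) (K := L.map C.subtype)
      (m := Nat.card G / (p : ℕ) ^ (Nat.card G).factorization p)
      (k := (p : ℕ) ^ (Nat.card G).factorization p)
      (Nat.div_mul_cancel (Nat.ordProj_dvd _ _)).symm
      (((Nat.coprime_ordCompl p.2 hG0).symm).pow_right _)
      (by rw [hLc]; exact ((Nat.coprime_ordCompl p.2 hC0).symm).pow_right _)
    have hidx : ∀ {X : Type u} [Group X] [Finite X] (T : Subgroup X),
        Nat.card T = Nat.card X / (p : ℕ) ^ (Nat.card X).factorization p →
        T.index = (p : ℕ) ^ (Nat.card X).factorization p := fun T hT => by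
      refine Nat.eq_of_mul_eq_mul_left (Nat.card_pos (α := T)) ?_
      rw [T.card_mul_index, hT, Nat.div_mul_cancel (Nat.ordProj_dvd _ _)]
    refine ⟨H, hidx H hH, (Nat.card C).factorization p, ?_⟩
    rw [← hidx L hL]
    have h2 : (L.map C.subtype).relIndex C = L.index := by
      show ((L.map C.subtype).subgroupOf C).index = L.index
      rw [Subgroup.subgroupOf, Subgroup.comap_map_eq_self_of_injective C.subtype_injective]
    rw [← h2]
    exact Subgroup.relIndex_dvd_of_le_left C hLH
  choose K hK hred using h
  exact ⟨K, hK, hred⟩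

/-- A subgroup of a nilpotent group of `r`-power index contains all `q`-subgroups, `q ≠ r`. -/
theorem le_of_pgroup_nilpotent [Finite G] {C K R : Subgroup G} (hC : Group.IsNilpotent C)
    {q r : ℕ} [hq : Fact q.Prime] (hr : r.Prime) (hqr : q ≠ r) {k : ℕ}
    (hidx : K.relIndex C ∣ r ^ k) (hR : IsPGroup q R) (hRC : R ≤ C) : R ≤ K := by
  let KC := K.subgroupOf C
  obtain ⟨S⟩ : Nonempty (Sylow q KC) := inferInstance
  obtain ⟨T, hT⟩ := (hR.comap_of_injective C.subtype C.subtype_injective).exists_le_sylow
  have hS : ¬ q ∣ ((S : Subgroup KC).map KC.subtype).index := by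
    rw [Subgroup.index_map_subtype, hq.out.dvd_mul]
    rintro (h | h)
    · exact S.not_dvd_index h
    · exact hqr ((Nat.prime_dvd_prime_iff_eq hq.out hr).1 (hq.out.dvd_of_dvd_pow (h.trans hidx)))
  let S' : Sylow q C := (S.isPGroup'.map KC.subtype).toSylow hS
  have hTS : T = S' := by
    haveI hTn : (T : Subgroup C).Normal := Supersolvable.isNilpotent_iff_all_sylow_normal.1 hC q hq T
    haveI := Sylow.unique_of_normal T hTn
    exact Subsingleton.elim _ _
  intro x hx
  have h1 : (⟨x, hRC hx⟩ : C) ∈ (T : Subgroup C) := hT hx
  rw [hTS] at h1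
  exact Subgroup.map_subtype_le (S : Subgroup KC) h1

/-- In a nilpotent subgroup a `q`-element commutes with every element of `q`-prime order. -/
theorem commute_of_pElement [Finite G] {C : Subgroup G} (hC : Group.IsNilpotent C) {q : ℕ}
    [hq : Fact q.Prime] {c l : G} (hc : c ∈ C) (hl : l ∈ C) {a : ℕ} (hcq : c ^ q ^ a = 1)
    (hlq : ¬ q ∣ orderOf l) : Commute c l := by
  have htop : (Subgroup.centralizer {c}).subgroupOf (Subgroup.zpowers l) = ⊤ := by
    refine Fitting.eq_top_of_sylow_le fun r hr => ?_
    haveI := Fact.mk hr
    obtain ⟨T⟩ : Nonempty (Sylow r (Subgroup.zpowers l)) := inferInstance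
    refine ⟨T, fun x hx => ?_⟩
    rw [Subgroup.mem_subgroupOf, Subgroup.mem_centralizer_singleton_iff]
    by_cases hrq : r = q
    · have hx1 : x = 1 := by
        have hT : Nat.card T = 1 := by
          rw [T.card_eq_multiplicity, Nat.card_zpowers,
            Nat.factorization_eq_zero_of_not_dvd (hrq ▸ hlq), pow_zero]
        exact (Subgroup.eq_bot_iff_forall _).1 (Subgroup.card_eq_one.1 hT) x hx
      rw [hx1, Subgroup.coe_one, one_mul, mul_one]
    · have hcp : IsPGroup q (Subgroup.zpowers c) := by
        obtain ⟨b, -, hb⟩ := (Nat.dvd_prime_pow hq.out).1 (orderOf_dvd_of_pow_eq_one hcq)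
        exact IsPGroup.of_card ((Nat.card_zpowers c).trans hb)
      exact Supersolvable.commute_of_nilpotent hC hrq (T.isPGroup'.map _) hcp
        ((Subgroup.map_subtype_le _).trans (Subgroup.zpowers_le.2 hl)) (Subgroup.zpowers_le.2 hc)
        (Subgroup.mem_map_of_mem _ hx) (Subgroup.mem_zpowers c)
  have h := Subgroup.subgroupOf_eq_top.1 htop (Subgroup.mem_zpowers l)
  exact (Subgroup.mem_centralizer_singleton_iff.1 h).symm

theorem systemNormalizer_le_carter (G : Type u) [Group G] [Finite G] [Group.IsSolvable G]
    (K : Nat.Primes → Subgroup G) (hK : Cfsg.IsComplementSystem K) (C : Subgroup G)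
    (hC : Carter.IsCarter C) (hred : Reduces K C) : Cfsg.systemNormalizer K ≤ C := by
  induction hn : Nat.card G using Nat.strong_induction_on generalizing G with
  | _ n ih =>
    subst hn
    rcases subsingleton_or_nontrivial G with hs | hnt
    · intro x _
      rw [Subsingleton.elim x 1]
      exact one_mem C
    obtain ⟨N, hN, hNne, hNc, hNmin, p, hp, hNp, -⟩ := Supersolvable.exists_minimal_normal_solvable G
    haveI := hN
    haveI := hC.1
    haveI hpf := Fact.mk hp
    let f := QuotientGroup.mk' N
    have hf : Function.Surjective f := QuotientGroup.mk'_surjective N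
    let X := N ⊔ C
    have hDX : Cfsg.systemNormalizer K ≤ X := by
      have h := ih _ (Supersolvable.card_quotient_lt hNne) (G ⧸ N) _ (map_isComplementSystem hK N)
        (C.map f) (isCarter_map hC N) (fun r => ?_) rfl
      · rw [map_systemNormalizer hK N] at h
        intro x hx
        have h2 : x ∈ (C.map f).comap f := h (Subgroup.mem_map_of_mem f hx)
        rwa [Subgroup.comap_map_eq, QuotientGroup.ker_mk', sup_comm] at h2
      · obtain ⟨k, hk⟩ := hred r
        refine ⟨k, dvd_trans ?_ hk⟩
        rw [← Subgroup.relIndex_comap, Subgroup.comap_map_eq, QuotientGroup.ker_mk']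
        exact Subgroup.relIndex_dvd_of_le_left C le_sup_left
    have hXC : C.relIndex X ∣ Nat.card N := by
      have e1 : (C ⊓ N).relIndex N * N.relIndex X = (C ⊓ N).relIndex X :=
        Subgroup.relIndex_mul_relIndex _ _ _ inf_le_right le_sup_left
      have e2 : (C ⊓ N).relIndex C * C.relIndex X = (C ⊓ N).relIndex X :=
        Subgroup.relIndex_mul_relIndex _ _ _ inf_le_left le_sup_right
      rw [Subgroup.inf_relIndex_left, ← e1, Subgroup.inf_relIndex_right] at e2
      have e3 : N.relIndex X = N.relIndex C := by
        show N.relIndex (N ⊔ C) = _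
        rw [sup_comm, Subgroup.relIndex_sup_right]
      rw [e3, mul_comm (C.relIndex N)] at e2
      rw [Nat.eq_of_mul_eq_mul_left (Nat.pos_of_ne_zero (Subgroup.index_ne_zero_of_finite)) e2]
      exact Subgroup.relIndex_dvd_card C N
    obtain ⟨e, he⟩ := IsPGroup.iff_card.1 hNp
    rw [he] at hXC
    -- Sylow subgroups of the system normalizer
    let D := Cfsg.systemNormalizer K
    have hsub : ∀ (q : ℕ) (_ : Fact q.Prime) (R : Subgroup G), IsPGroup q R → R ≤ D → R ≤ C := by
      intro q hq R hR hRD
      have hRX : R ≤ X := hRD.trans hDX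
      by_cases hqp : q = p
      swap
      · let Q₀ : Subgroup G := ⨅ (r : Nat.Primes) (_ : (r : ℕ) ≠ q), K r
        obtain ⟨S⟩ : Nonempty (Sylow q C) := inferInstance
        let S₁ : Subgroup G := (S : Subgroup C).map C.subtype
        have hS₁Q : S₁ ≤ Q₀ := le_iInf₂ fun r hr => by
          obtain ⟨k, hk⟩ := hred r
          exact le_of_pgroup_nilpotent hC.1 r.2 (Ne.symm hr) hk (S.isPGroup'.map _)
            (Subgroup.map_subtype_le _)
        have hS₁X : S₁ ≤ X := (Subgroup.map_subtype_le _).trans le_sup_right
        have hnd : ¬ q ∣ (S₁.subgroupOf X).index := by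
          show ¬ q ∣ S₁.relIndex X
          rw [← Subgroup.relIndex_mul_relIndex S₁ C X (Subgroup.map_subtype_le _) le_sup_right,
            hq.out.dvd_mul]
          rintro (h | h)
          · refine S.not_dvd_index ?_
            rwa [Subgroup.relIndex, Subgroup.subgroupOf,
              Subgroup.comap_map_eq_self_of_injective C.subtype_injective] at h
          · exact hqp ((Nat.prime_dvd_prime_iff_eq hq.out hp).1 (hq.out.dvd_of_dvd_pow (h.trans hXC)))
        let S₂ : Sylow q X :=
          ((S.isPGroup'.map C.subtype).comap_of_injective X.subtype X.subtype_injective).toSylow hnd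
        have hQ₀ : IsPGroup q Q₀ := by
          refine IsPGroup.of_card (Nat.eq_prime_pow_of_unique_prime_dvd Nat.card_pos.ne'
            (fun {d} hd hdd => ?_))
          by_contra hne
          exact not_dvd_card hK ⟨d, hd⟩ (hdd.trans (Subgroup.card_dvd_of_le
            (iInf₂_le (f := fun (r : Nat.Primes) (_ : (r : ℕ) ≠ q) => K r) ⟨d, hd⟩ hne)))
        have hmax : Q₀.subgroupOf X = S₁.subgroupOf X :=
          S₂.3 (hQ₀.comap_of_injective X.subtype X.subtype_injective) (Subgroup.comap_mono hS₁Q)
        intro x hx
        have hxQ : x ∈ Q₀ := by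
          refine Subgroup.mem_iInf.2 fun r => Subgroup.mem_iInf.2 fun hr => ?_
          exact isPGroup_le hK hR hRD hr hx
        have h1 : (⟨x, hRX hx⟩ : X) ∈ S₁.subgroupOf X := by rw [← hmax]; exact hxQ
        exact Subgroup.map_subtype_le _ h1
      · subst hqp
        let P₀ : Nat.Primes := ⟨q, hp⟩
        let L := K P₀ ⊓ C
        obtain ⟨k, hk⟩ := hred P₀
        have hcop : ∀ {T : Subgroup G}, IsPGroup q T → T ⊓ K P₀ = ⊥ := fun {T} hT => by
          refine Subgroup.inf_eq_bot_of_coprime ?_
          obtain ⟨a, ha⟩ := IsPGroup.iff_card.1 hT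
          rw [ha]
          exact (coprime_card_pow hK P₀ a).symm
        -- the `q`-part of `C`
        obtain ⟨S⟩ : Nonempty (Sylow q C) := inferInstance
        let Cp : Subgroup G := (S : Subgroup C).map C.subtype
        have hCpp : IsPGroup q Cp := S.isPGroup'.map _
        have hCLp : L ⊔ Cp = C := by
          refine le_antisymm (sup_le inf_le_right (Subgroup.map_subtype_le _)) ?_
          have h1 : (L ⊔ Cp).subgroupOf C = ⊤ := by
            refine Fitting.eq_top_of_sylow_le fun r hr => ?_
            haveI := Fact.mk hr
            obtain ⟨T⟩ : Nonempty (Sylow r C) := inferInstance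
            refine ⟨T, ?_⟩
            by_cases hrq : r = q
            · subst hrq
              haveI hTn : (T : Subgroup C).Normal :=
                Supersolvable.isNilpotent_iff_all_sylow_normal.1 hC.1 r ⟨hr⟩ T
              haveI := Sylow.unique_of_normal T hTn
              rw [Subsingleton.elim T S]
              exact fun x hx => Subgroup.mem_sup_right (Subgroup.mem_map_of_mem C.subtype hx)
            · intro x hx
              refine Subgroup.mem_sup_left ⟨?_, x.2⟩
              exact le_of_pgroup_nilpotent hC.1 (r := q) hp hrq hk (T.isPGroup'.map C.subtype)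
                (Subgroup.map_subtype_le _) (Subgroup.mem_map_of_mem _ hx)
          exact Subgroup.subgroupOf_eq_top.1 h1
        haveI hLn : (L.subgroupOf C).Normal := by
          have : Subgroup.normalizer ((L.subgroupOf C : Subgroup C) : Set C) = ⊤ := by
            refine Fitting.eq_top_of_sylow_le fun r hr => ?_
            haveI := Fact.mk hr
            obtain ⟨T⟩ : Nonempty (Sylow r C) := inferInstance
            refine ⟨T, ?_⟩
            by_cases hrq : r = q
            · subst hrq
              refine le_trans ?_ (Subgroup.centralizer_le_normalizer _)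
              intro x hx
              rw [Subgroup.mem_centralizer_iff]
              intro l hl
              have hl' : ¬ r ∣ orderOf (l : G) := fun h => not_dvd_card hK P₀
                (h.trans (Subgroup.orderOf_dvd_natCard _ hl.1))
              obtain ⟨a, ha⟩ := T.isPGroup' ⟨x, hx⟩
              have hx' : x ^ r ^ a = 1 := congrArg Subtype.val ha
              exact Subtype.ext (commute_of_pElement hC.1 x.2 l.2
                (a := a) (by rw [← Subgroup.coe_pow, hx', Subgroup.coe_one]) hl').symm.eq
            · intro x hx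
              refine Subgroup.le_normalizer ⟨?_, x.2⟩
              exact le_of_pgroup_nilpotent hC.1 (r := q) hp hrq hk (T.isPGroup'.map C.subtype)
                (Subgroup.map_subtype_le _) (Subgroup.mem_map_of_mem _ hx)
          exact Subgroup.normalizer_eq_top_iff.1 this
        have hCnL : C ≤ Subgroup.normalizer (L : Set G) :=
          (Subgroup.normal_subgroupOf_iff_le_normalizer inf_le_right).1 hLn
        have hKX : K P₀ ⊓ X = L := by
          refine (Subgroup.eq_of_le_of_card_ge (inf_le_inf_left _ le_sup_right) ?_).symm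
          refine Nat.le_of_dvd Nat.card_pos ?_
          obtain ⟨b, -, hb⟩ := (Nat.dvd_prime_pow hp).1 hXC
          have hXcard : Nat.card X = Nat.card L * (L.relIndex C * C.relIndex X) := by
            rw [Subgroup.relIndex_mul_relIndex _ _ _ inf_le_right le_sup_right,
              ← Nat.card_congr (Subgroup.subgroupOfEquivOfLe (inf_le_right.trans le_sup_right : L ≤ X)).toEquiv]
            exact (Subgroup.card_mul_index _).symm
          have hLC : L.relIndex C = (K P₀).relIndex C := Subgroup.inf_relIndex_right _ _
          obtain ⟨c, -, hc⟩ := (Nat.dvd_prime_pow hp).1 (hLC ▸ hk)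
          have hdvd : Nat.card ↥(K P₀ ⊓ X) ∣ Nat.card L * q ^ (c + b) := by
            have h3 := Subgroup.card_dvd_of_le (inf_le_right : K P₀ ⊓ X ≤ X)
            rwa [hXcard, hc, hb, ← pow_add] at h3
          exact (Nat.Coprime.coprime_dvd_left (Subgroup.card_dvd_of_le inf_le_left)
            (coprime_card_pow hK P₀ (c + b))).dvd_of_dvd_mul_right hdvd
        have hRL : R ≤ Subgroup.normalizer (L : Set G) := by
          intro x hx
          rw [Supersolvable.mem_normalizer_iff_conj_smul, ← hKX, Subgroup.smul_inf,
            Supersolvable.mem_normalizer_iff_conj_smul.1 (systemNormalizer_le K P₀ (hRD hx)),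
            Subgroup.conj_smul_eq_self_of_mem (hRX hx)]
        let M := N ⊓ Subgroup.normalizer (L : Set G)
        have hMc : ∀ m ∈ M, ∀ l ∈ L, Commute m l := by
          intro m hm l hl
          have h1 : (m * l * m⁻¹) * l⁻¹ = 1 := by
            refine (Subgroup.eq_bot_iff_forall _).1 (hcop hNp) _ ⟨?_, ?_⟩
            · have h2 : m * l * m⁻¹ * l⁻¹ = m * (l * m⁻¹ * l⁻¹) := by group
              rw [h2]
              exact N.mul_mem hm.1 (hN.conj_mem _ (N.inv_mem hm.1) l)
            · exact (K P₀).mul_mem ((Subgroup.mem_normalizer_iff.1 hm.2 l).1 hl).1 ((K P₀).inv_mem hl.1)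
          exact mul_inv_eq_iff_eq_mul.1 (mul_inv_eq_one.1 h1)
        let Y := C ⊔ M
        have hRY : R ≤ Y := by
          intro x hx
          obtain ⟨m, hm, c, hc, rfl⟩ := Subgroup.mem_sup_of_normal_left.1 (hRX hx)
          refine mul_mem (Subgroup.mem_sup_right ⟨hm, ?_⟩) (Subgroup.mem_sup_left hc)
          have h2 := mul_mem (hRL hx) (inv_mem (hCnL hc))
          rwa [mul_inv_cancel_right] at h2
        have hYnil : Group.IsNilpotent Y := by
          let U := Cp ⊔ M
          have hU : IsPGroup q U := by
            refine (IsPGroup.to_sup_of_normal_right hCpp hNp).to_le ?_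
            exact sup_le_sup_left inf_le_left _
          have hYLU : Y = L ⊔ U := by
            show C ⊔ M = L ⊔ (Cp ⊔ M)
            rw [← sup_assoc, hCLp]
          have hcomm : ∀ u ∈ U, ∀ l ∈ L, Commute u l := by
            intro u hu l hl
            have hle : U ≤ Subgroup.centralizer (L : Set G) := by
              refine sup_le ?_ fun m hm => Subgroup.mem_centralizer_iff.2 fun l hl => (hMc m hm l hl).symm
              intro c hc
              rw [Subgroup.mem_centralizer_iff]
              intro l hl
              obtain ⟨a, ha⟩ := hCpp ⟨c, hc⟩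
              have hc' : c ^ q ^ a = 1 := congrArg Subtype.val ha
              have hl' : ¬ q ∣ orderOf l := fun h => not_dvd_card hK P₀
                (h.trans (Subgroup.orderOf_dvd_natCard _ hl.1))
              exact (commute_of_pElement hC.1 (Subgroup.map_subtype_le _ hc) hl.2 hc' hl').symm
            exact (Subgroup.mem_centralizer_iff.1 (hle hu) l hl).symm
          haveI : Group.IsNilpotent L := Carter.isNilpotent_of_le inf_le_right hC.1
          haveI : Group.IsNilpotent U := hU.isNilpotent
          let φ : L × U →* G := (L.subtype).noncommCoprod U.subtype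
            (fun l u => (hcomm u u.2 l l.2).symm)
          have hrange : φ.range = Y := by
            refine (MonoidHom.noncommCoprod_range L.subtype U.subtype _).trans ?_
            rw [Subgroup.range_subtype, Subgroup.range_subtype, hYLU]
          haveI : Group.IsNilpotent φ.range :=
            Group.nilpotent_of_surjective φ.rangeRestrict φ.rangeRestrict_surjective
          exact Carter.isNilpotent_of_le hrange.ge inferInstance
        have hCY : C = Y := by
          have hCY' : C ≤ Y := le_sup_left
          have h := Carter.eq_top_of_isNilpotent (C := C.subgroupOf Y) hYnil (hC.subgroupOf hCY').2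
          exact le_antisymm hCY' (Subgroup.subgroupOf_eq_top.1 h)
        rw [hCY]
        exact hRY
    have htop : C.subgroupOf D = ⊤ := by
      refine Fitting.eq_top_of_sylow_le fun r hr => ?_
      haveI := Fact.mk hr
      obtain ⟨T⟩ : Nonempty (Sylow r D) := inferInstance
      refine ⟨T, fun x hx => hsub r ⟨hr⟩ _ (T.isPGroup'.map D.subtype) (Subgroup.map_subtype_le _) ?_⟩
      exact Subgroup.mem_map_of_mem _ hx
    exact Subgroup.subgroupOf_eq_top.1 htop

end Cfsg.Agent.Lib.SystemNormalizer
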